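import Groth.Agent.FibFlat.Descent
import Mathlib.AlgebraicGeometry.Morphisms.Smooth
import Mathlib.AlgebraicGeometry.Morphisms.Flat
import Mathlib.AlgebraicGeometry.Fiber
import Mathlib.RingTheory.RingHom.StandardSmooth
import Mathlib.RingTheory.Unramified.Finite

/-!
# A morphism between smooth schemes which is flat on the fibres is flat
-/

universe u

open TensorProduct CategoryTheory CategoryTheory.Limits AlgebraicGeometry

namespace Groth.Agent.FibFlat

attribute [local instance] Algebra.TensorProduct.rightAlgebra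

theorem flat_fibre_aux {A L P G B C F : Type u} [CommRing A] [CommRing L] [CommRing P] [CommRing G]
    [CommRing B] [CommRing C] [CommRing F] [Algebra A L] [Algebra A P] [Algebra A B] [Algebra P G]
    [Algebra P B] [IsScalarTower A P B] [Algebra L G] [Algebra G F] [Algebra B F] [Algebra P F]
    [IsScalarTower P G F] [IsScalarTower P B F] [Algebra P C] [Algebra B C] [IsScalarTower P B C]
    (hLG : ∀ a : A, algebraMap P G (algebraMap A P a) = algebraMap L G (algebraMap A L a))
    (hfib : ∀ (F' : Type u) [CommRing F'] [Algebra B F'] [Algebra L F'] [Algebra A F']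
      [IsScalarTower A B F'] [IsScalarTower A L F'], Module.Flat F' (F' ⊗[B] C))
    (hGF : Module.Flat G F) (hpo : Algebra.IsPushout P G B F) :
    Module.Flat G (G ⊗[P] C) := by
  let : Algebra L F := ((algebraMap G F).comp (algebraMap L G)).toAlgebra
  let : Algebra A F := ((algebraMap B F).comp (algebraMap A B)).toAlgebra
  have : IsScalarTower A B F := .of_algebraMap_eq fun a => rfl
  have : IsScalarTower A L F := .of_algebraMap_eq fun a => by
    change algebraMap B F (algebraMap A B a) = algebraMap G F (algebraMap L G (algebraMap A L a))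
    rw [IsScalarTower.algebraMap_apply A P B, ← IsScalarTower.algebraMap_apply P B F,
      IsScalarTower.algebraMap_apply P G F, hLG]
  have : Module.Flat F (F ⊗[B] C) := hfib F
  have : Module.Flat G (F ⊗[B] C) := Module.Flat.trans G F _
  exact Module.Flat.of_linearEquiv (Algebra.IsPushout.cancelBaseChange P G B F C).symm

/-- Fibrewise flatness between smooth algebras. -/
theorem flat_of_smooth_fibres {A B C : Type u} [CommRing A] [CommRing B] [CommRing C]
    [Algebra A B] [Algebra A C] [Algebra B C] [IsScalarTower A B C]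
    (hB : (algebraMap A B).IsStandardSmooth) [Algebra.Smooth A C]
    (hfib : ∀ (L : Type u) [Field L] [Algebra A L] (F : Type u) [CommRing F] [Algebra B F] [Algebra L F]
      [Algebra A F] [IsScalarTower A B F] [IsScalarTower A L F], Module.Flat F (F ⊗[B] C)) :
    Module.Flat B C := by
  obtain ⟨n, g, hgC, hg⟩ := hB.exists_etale_mvPolynomial
  let σ : Type u := ULift.{u} (Fin n)
  let P := MvPolynomial σ A
  let g' : P →+* B := g.comp (MvPolynomial.renameEquiv A Equiv.ulift).toRingEquiv.toRingHom
  have hg' : g'.Etale :=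
    RingHom.Etale.stableUnderComposition _ g (RingHom.Etale.of_bijective (f := (MvPolynomial.renameEquiv A (Equiv.ulift : σ ≃ Fin n)).toRingEquiv.toRingHom) (MvPolynomial.renameEquiv A (Equiv.ulift : σ ≃ Fin n)).bijective) hg
  have hgC' : ∀ a, g' (MvPolynomial.C a) = algebraMap A B a := fun a => by
    change g (MvPolynomial.renameEquiv A Equiv.ulift (MvPolynomial.C a)) = _
    rw [← hgC]
    simp
  let : Algebra P B := g'.toAlgebra
  have : IsScalarTower A P B := .of_algebraMap_eq fun a => (hgC' a).symm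
  have : Algebra.Etale P B := RingHom.etale_algebraMap.1 hg'
  let c : σ → C := fun i => algebraMap B C (algebraMap P B (MvPolynomial.X i))
  let : Algebra P C := (MvPolynomial.aeval c : P →ₐ[A] C).toRingHom.toAlgebra
  have : IsScalarTower A P C :=
    .of_algebraMap_eq fun x => ((MvPolynomial.aeval c : P →ₐ[A] C).commutes x).symm
  have : IsScalarTower P B C := .of_algebraMap_eq' (by
    refine MvPolynomial.ringHom_ext (fun a => ?_) fun i => ?_
    · change algebraMap P C (algebraMap A P a) = algebraMap B C (algebraMap P B (algebraMap A P a))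
      rw [← IsScalarTower.algebraMap_apply A P C, ← IsScalarTower.algebraMap_apply A P B, ← IsScalarTower.algebraMap_apply A B C]
    · exact MvPolynomial.aeval_X c i)
  have : (algebraMap P C).Flat := flat_aeval_of_fibres (A := A) (σ := σ) c fun L _ _ => by
    let G := P ⊗[A] L
    let F := G ⊗[P] B
    have : Module.Flat P B := Algebra.Smooth.flat P B
    have hLG : ∀ a : A, (algebraMap A P a) ⊗ₜ[A] (1 : L) = (1 : P) ⊗ₜ[A] (algebraMap A L a) := fun a => by
      rw [Algebra.algebraMap_eq_smul_one, smul_tmul, ← Algebra.algebraMap_eq_smul_one]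
    exact flat_fibre_aux (A := A) (L := L) (P := P) (G := G) (B := B) (C := C) (F := F) hLG
      (fun F' _ _ _ _ _ _ => hfib L F') inferInstance inferInstance
  have : Module.Flat P C := this
  exact Algebra.FormallyUnramified.flat_of_restrictScalars P B C

/-- A morphism between smooth `S`-schemes is flat as soon as it becomes flat after every base change
factoring through a field-valued point of `S`. -/
theorem flat_of_smooth {S G H : Scheme.{u}} (g : G ⟶ S) (h : H ⟶ S) [Smooth g] [Smooth h] (f : G ⟶ H)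
    (w : f ≫ h = g)
    (hfib : ∀ ⦃Y : Scheme.{u}⦄ (y : Y ⟶ H) (L : Type u) [Field L] (a : Y ⟶ Spec (CommRingCat.of L))
      (b : Spec (CommRingCat.of L) ⟶ S), a ≫ b = y ≫ h → Flat (pullback.fst y f)) : Flat f := by
  suffices key : ∀ x, ∃ W : G.Opens, x ∈ W ∧ Flat (W.ι ≫ f) by
    choose W hxW hW using key
    exact IsZariskiLocalAtSource.of_iSup_eq_top W
      (top_le_iff.1 fun x _ => TopologicalSpace.Opens.mem_iSup.2 ⟨x, hxW x⟩) hW
  intro x
  obtain ⟨U, hU, V, hV, hxV, eV, hstd⟩ := Smooth.exists_isStandardSmooth h (f x)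
  obtain ⟨W, hW, hxW, eW⟩ := exists_isAffineOpen_mem_and_subset (X := G) (x := x) (U := f ⁻¹ᵁ V) hxV
  refine ⟨W, hxW, ?_⟩
  have eWU : W ≤ g ⁻¹ᵁ U := fun z hz => by
    rw [← w]; exact eV (eW hz)
  let φ : Γ(H, V) ⟶ Γ(G, W) := f.appLE V W eW
  have hφ : W.ι ≫ f = hW.isoSpec.hom ≫ Spec.map φ ≫ hV.fromSpec := by
    rw [← hW.isoSpec_hom_fromSpec, Category.assoc]
    congr 1
    exact (hV.SpecMap_appLE_fromSpec f hW eW).symm
  rw [hφ]
  suffices Flat (Spec.map φ) by infer_instance
  rw [Flat.SpecMap_iff]
  let : Algebra Γ(S, U) Γ(H, V) := (h.appLE U V eV).hom.toAlgebra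
  let : Algebra Γ(S, U) Γ(G, W) := (g.appLE U W eWU).hom.toAlgebra
  let : Algebra Γ(H, V) Γ(G, W) := φ.hom.toAlgebra
  have hcomp : h.appLE U V eV ≫ φ = g.appLE U W eWU := by
    simp only [φ, Scheme.Hom.appLE_comp_appLE, w]
  have : IsScalarTower Γ(S, U) Γ(H, V) Γ(G, W) := .of_algebraMap_eq fun a =>
    (congrArg (fun k : Γ(S, U) ⟶ Γ(G, W) => k.hom a) hcomp).symm
  have : Algebra.Smooth Γ(S, U) Γ(G, W) :=
    RingHom.smooth_algebraMap.1 (HasRingHomProperty.appLE @Smooth g ‹_› ⟨U, hU⟩ ⟨W, hW⟩ eWU)
  refine flat_of_smooth_fibres (A := Γ(S, U)) hstd fun L _ _ F _ _ _ _ _ _ => ?_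
  let ψ : Γ(H, V) ⟶ CommRingCat.of F := CommRingCat.ofHom (algebraMap Γ(H, V) F)
  let y : Spec (CommRingCat.of F) ⟶ H := Spec.map ψ ≫ hV.fromSpec
  let α : Γ(S, U) ⟶ CommRingCat.of L := CommRingCat.ofHom (algebraMap Γ(S, U) L)
  let β : CommRingCat.of L ⟶ CommRingCat.of F := CommRingCat.ofHom (algebraMap L F)
  have hfl : Flat (pullback.fst y f) := hfib y L (Spec.map β) (Spec.map α ≫ hU.fromSpec) (by
    rw [← Category.assoc, ← Spec.map_comp, Category.assoc, ← hU.SpecMap_appLE_fromSpec h hV eV,
      ← Category.assoc (Spec.map ψ), ← Spec.map_comp]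
    congr 2
    ext a
    exact (IsScalarTower.algebraMap_apply Γ(S, U) L F a).symm.trans
      (IsScalarTower.algebraMap_apply Γ(S, U) Γ(H, V) F a))
  let j : pullback (Spec.map ψ ≫ hV.fromSpec) (Spec.map φ ≫ hV.fromSpec) ⟶ pullback y f :=
    pullback.map _ _ _ _ (𝟙 _) hW.fromSpec (𝟙 _) (by simp [y])
      (by rw [Category.comp_id]; exact hV.SpecMap_appLE_fromSpec f hW eW)
  have : IsOpenImmersion j := inferInstance
  let j' : pullback (Spec.map ψ) (Spec.map φ) ⟶
      pullback (Spec.map ψ ≫ hV.fromSpec) (Spec.map φ ≫ hV.fromSpec) :=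
    pullback.map _ _ _ _ (𝟙 _) (𝟙 _) hV.fromSpec (by simp) (by simp)
  have : IsIso j' := ⟨pullback.lift (pullback.fst _ _) (pullback.snd _ _)
      ((cancel_mono hV.fromSpec).1 (by simpa only [Category.assoc] using pullback.condition)), by
    apply pullback.hom_ext <;> simp only [j', pullback.map, Category.assoc, Category.id_comp, Category.comp_id, pullback.lift_fst, pullback.lift_snd], by
    apply pullback.hom_ext <;> simp only [j', pullback.map, Category.assoc, Category.id_comp, Category.comp_id, pullback.lift_fst, pullback.lift_snd]⟩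
  have h1 : Flat ((pullbackSpecIso Γ(H, V) F Γ(G, W)).inv ≫ j' ≫ j ≫ pullback.fst y f) := inferInstance
  rw [show j' ≫ j ≫ pullback.fst y f = pullback.fst (Spec.map ψ) (Spec.map φ) by simp only [j, j', pullback.map, Category.assoc, Category.comp_id, pullback.lift_fst]] at h1
  have h2 : Flat (Spec.map (CommRingCat.ofHom (algebraMap F (F ⊗[Γ(H, V)] Γ(G, W))))) := by
    rw [← pullbackSpecIso_inv_fst']; exact h1
  rw [Flat.SpecMap_iff] at h2
  exact RingHom.flat_algebraMap_iff.1 h2

end Groth.Agent.FibFlat
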