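import Groth.Agent.FibFlat.Noetherian
import Mathlib.RingTheory.Smooth.NoetherianDescent
import Mathlib.RingTheory.Smooth.Flat
import Mathlib.RingTheory.TensorProduct.MvPolynomial
import Mathlib.RingTheory.Localization.LocalizationLocalization
import Mathlib.RingTheory.Flat.FaithfullyFlat.Algebra
import Mathlib.LinearAlgebra.TensorProduct.Finiteness

/-!
# Fibrewise criterion of flatness for maps from smooth algebras to affine space
-/

universe u

open TensorProduct

namespace Groth.Agent.FibFlat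

attribute [local instance] Algebra.TensorProduct.rightAlgebra

variable {A A₁ P P₁ C C₁ : Type u} [CommRing A] [CommRing A₁] [CommRing P] [CommRing P₁]
  [CommRing C] [CommRing C₁] [Algebra A₁ A] [Algebra A₁ P₁] [Algebra P₁ C₁] [Algebra A₁ C₁]
  [IsScalarTower A₁ P₁ C₁]

/-- descent of flatness along an extension of the residue field -/
theorem flat_fibre_descent (k L : Type u) [Field k] [Field L] [Algebra A₁ k] [Algebra A₁ L]
    [Algebra k L] [IsScalarTower A₁ k L]
    (h : Module.Flat (P₁ ⊗[A₁] L) ((P₁ ⊗[A₁] L) ⊗[P₁] C₁)) :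
    Module.Flat (P₁ ⊗[A₁] k) ((P₁ ⊗[A₁] k) ⊗[P₁] C₁) := by
  let F := P₁ ⊗[A₁] k
  let G := P₁ ⊗[A₁] L
  let g : F →ₐ[P₁] G :=
    Algebra.TensorProduct.map (AlgHom.id P₁ P₁) (IsScalarTower.toAlgHom A₁ k L)
  let : Algebra F G := g.toRingHom.toAlgebra
  have : IsScalarTower P₁ F G := .of_algebraMap_eq fun x => (g.commutes x).symm
  let : Algebra k G := (g.toRingHom.comp (algebraMap k F)).toAlgebra
  have : IsScalarTower k F G := .of_algebraMap_eq fun x => rfl
  have hk : ∀ a : k, algebraMap k G a = (1 : P₁) ⊗ₜ[A₁] algebraMap k L a := fun a => by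
    change g ((1 : P₁) ⊗ₜ[A₁] a) = _
    exact Algebra.TensorProduct.map_tmul _ _ _ _
  have : IsScalarTower k L G := .of_algebraMap_eq fun x => hk x
  have : IsScalarTower A₁ k G := .of_algebraMap_eq fun x => by
    rw [hk, ← IsScalarTower.algebraMap_apply A₁ k L]
    change (algebraMap A₁ P₁ x) ⊗ₜ[A₁] (1 : L) = _
    rw [Algebra.algebraMap_eq_smul_one, smul_tmul, ← Algebra.algebraMap_eq_smul_one]
  have : IsScalarTower A₁ F G := .of_algebraMap_eq fun x => (g.restrictScalars A₁).commutes x |>.symm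
  have : Algebra.IsPushout A₁ L P₁ G := Algebra.IsPushout.symm inferInstance
  have : Algebra.IsPushout A₁ k P₁ F := Algebra.IsPushout.symm inferInstance
  have hGP : Algebra.IsPushout k L F G := (Algebra.IsPushout.comp_iff A₁ k P₁ F).1 ‹_›
  have hGF : Algebra.IsPushout k F L G := hGP.symm
  have : Module.FaithfullyFlat F G := Module.FaithfullyFlat.of_linearEquiv F (F ⊗[k] L)
    (Algebra.IsPushout.equiv k F L G).symm.toLinearEquiv
  have : Module.Flat G (G ⊗[F] (F ⊗[P₁] C₁)) :=
    Module.Flat.of_linearEquiv (AlgebraTensorModule.cancelBaseChange P₁ F G G C₁)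
  exact Module.Flat.of_flat_tensorProduct _ _ G

variable [IsNoetherianRing P₁] [IsNoetherianRing C₁] [Module.Flat A₁ C₁]
  [Algebra A P] [Algebra P C] [Algebra A C] [IsScalarTower A P C] [Algebra P₁ P] [Algebra A₁ P]
  [IsScalarTower A₁ A P] [IsScalarTower A₁ P₁ P] [Algebra C₁ C] [Algebra P₁ C] [Algebra A₁ C]
  [IsScalarTower P₁ P C] [IsScalarTower P₁ C₁ C] [IsScalarTower A₁ A C] [IsScalarTower A₁ C₁ C]

/-- The fibrewise criterion, given a noetherian model. -/
theorem flat_of_model [Algebra.IsPushout P₁ P C₁ C]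
    (hfib : ∀ (L : Type u) [Field L] [Algebra A L] [Algebra A₁ L] [IsScalarTower A₁ A L],
      Module.Flat (P₁ ⊗[A₁] L) ((P₁ ⊗[A₁] L) ⊗[P₁] C₁)) : Module.Flat P C := by
  apply Module.flat_of_isLocalized_maximal C C (fun Q => Localization.AtPrime Q)
    (fun Q => Algebra.linearMap C (Localization.AtPrime Q))
  intro Q _
  let q₁ : Ideal C₁ := Q.under C₁
  let pA : Ideal A := Q.under A
  let p₁ : Ideal A₁ := q₁.under A₁
  have hp : p₁ = pA.under A₁ := by
    simp only [p₁, q₁, pA, Ideal.under_under]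
  have : q₁.LiesOver p₁ := ⟨rfl⟩
  let L := pA.ResidueField
  let k := p₁.ResidueField
  let : Algebra A₁ L := ((algebraMap A L).comp (algebraMap A₁ A)).toAlgebra
  have : IsScalarTower A₁ A L := .of_algebraMap_eq fun x => rfl
  let f : k →+* L := Ideal.ResidueField.lift p₁ (algebraMap A₁ L)
    (fun a ha => by
      rw [hp] at ha
      rw [RingHom.mem_ker, IsScalarTower.algebraMap_apply A₁ A L]
      exact Ideal.algebraMap_residueField_eq_zero.2 ha)
    (fun a ha => by
      change IsUnit (algebraMap A₁ L a)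
      rw [isUnit_iff_ne_zero, IsScalarTower.algebraMap_apply A₁ A L, ne_eq, Ideal.algebraMap_residueField_eq_zero]
      exact fun h => ha (hp ▸ h))
  let : Algebra k L := f.toAlgebra
  have : IsScalarTower A₁ k L := .of_algebraMap_eq fun x => (Ideal.ResidueField.lift_algebraMap ..).symm
  have hT : Module.Flat P₁ (Localization.AtPrime q₁) :=
    flat_localization_of_fibre q₁ p₁ (flat_fibre_descent k L (hfib L))
  let T := Localization.AtPrime q₁
  let M := C ⊗[C₁] T
  have : Module.Flat P M := by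
    have : Module.Flat P (P ⊗[P₁] T) := inferInstance
    exact Module.Flat.of_linearEquiv (Algebra.IsPushout.cancelBaseChange P₁ P C₁ C T)
  have hM : IsLocalization (Algebra.algebraMapSubmonoid C q₁.primeCompl) M := inferInstance
  have hle : Algebra.algebraMapSubmonoid C q₁.primeCompl ≤ Q.primeCompl := by
    rintro _ ⟨x, hx, rfl⟩
    exact hx
  let e : M →+* Localization.AtPrime Q := IsLocalization.lift (M := Algebra.algebraMapSubmonoid C q₁.primeCompl)
    (S := M) (g := algebraMap C (Localization.AtPrime Q)) (fun y => IsLocalization.map_units _ (⟨y, hle y.2⟩ : Q.primeCompl))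
  let : Algebra M (Localization.AtPrime Q) := e.toAlgebra
  have : IsScalarTower C M (Localization.AtPrime Q) :=
    IsScalarTower.of_algebraMap_eq (R := C) (S := M) (A := Localization.AtPrime Q) fun x => (IsLocalization.lift_eq _ x).symm
  have := IsLocalization.isLocalization_of_submonoid_le M (Localization.AtPrime Q)
    (Algebra.algebraMapSubmonoid C q₁.primeCompl) Q.primeCompl hle
  have : Module.Flat M (Localization.AtPrime Q) := IsLocalization.flat _ (Q.primeCompl.map (algebraMap C M))
  have : IsScalarTower P M (Localization.AtPrime Q) := IsScalarTower.of_algebraMap_eq (R := P) (S := M) (A := Localization.AtPrime Q) fun x => by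
    rw [IsScalarTower.algebraMap_apply P C (Localization.AtPrime Q),
      IsScalarTower.algebraMap_apply P C M, ← IsScalarTower.algebraMap_apply C M]
  exact Module.Flat.trans P M _

omit [Algebra A₁ A] [Algebra A₁ P₁] [Algebra P₁ C₁] [Algebra A₁ C₁] [IsScalarTower A₁ P₁ C₁]
  [IsNoetherianRing P₁] [IsNoetherianRing C₁] [Module.Flat A₁ C₁] [Algebra P₁ P] [Algebra A₁ P]
  [IsScalarTower A₁ A P] [IsScalarTower A₁ P₁ P] [Algebra C₁ C] [Algebra P₁ C] [Algebra A₁ C]
  [IsScalarTower P₁ P C] [IsScalarTower P₁ C₁ C] [IsScalarTower A₁ A C] [IsScalarTower A₁ C₁ C] in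
attribute [local instance] MvPolynomial.algebraMvPolynomial in
/-- A map from affine space to a smooth algebra which is flat on all fibres is flat. -/
theorem flat_aeval_of_fibres {σ : Type u} [Finite σ] [Algebra.Smooth A C]
    (c : σ → C)
    (hfib : ∀ (L : Type u) [Field L] [Algebra A L],
      letI := ((MvPolynomial.aeval c : MvPolynomial σ A →ₐ[A] C)).toRingHom.toAlgebra
      Module.Flat ((MvPolynomial σ A) ⊗[A] L) (((MvPolynomial σ A) ⊗[A] L) ⊗[MvPolynomial σ A] C)) :
    (MvPolynomial.aeval c : MvPolynomial σ A →ₐ[A] C).toRingHom.Flat := by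
  classical
  let : Algebra (MvPolynomial σ A) C := (MvPolynomial.aeval c : MvPolynomial σ A →ₐ[A] C).toRingHom.toAlgebra
  have : IsScalarTower A (MvPolynomial σ A) C :=
    .of_algebraMap_eq fun x => ((MvPolynomial.aeval c : MvPolynomial σ A →ₐ[A] C).commutes x).symm
  obtain ⟨A₀, B₀, _, _, _, _, _, -, hA₀, _, ⟨e⟩⟩ := Algebra.Smooth.exists_finiteType ℤ A C
  have : IsNoetherianRing A₀ := Algebra.FiniteType.isNoetherianRing ℤ A₀
  choose S hS using fun i => TensorProduct.exists_finset (R := A₀) (e (c i))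
  let τ := Σ i, S i
  let : Fintype σ := Fintype.ofFinite σ
  let A₁ := MvPolynomial τ A₀
  let : Algebra A₁ A := (MvPolynomial.aeval (fun t : τ => t.2.1.1) : MvPolynomial τ A₀ →ₐ[A₀] A).toRingHom.toAlgebra
  have : IsScalarTower A₀ A₁ A :=
    .of_algebraMap_eq fun x => ((MvPolynomial.aeval (fun t : τ => t.2.1.1) : MvPolynomial τ A₀ →ₐ[A₀] A).commutes x).symm
  let C₁ := A₁ ⊗[A₀] B₀
  let P₁ := MvPolynomial σ A₁
  let cl : σ → C₁ := fun i => ∑ x : S i, (MvPolynomial.X (⟨i, x⟩ : τ) : A₁) ⊗ₜ[A₀] x.1.2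
  let : Algebra P₁ C₁ := (MvPolynomial.aeval cl : P₁ →ₐ[A₁] C₁).toRingHom.toAlgebra
  have : IsScalarTower A₁ P₁ C₁ :=
    .of_algebraMap_eq fun x => ((MvPolynomial.aeval cl : P₁ →ₐ[A₁] C₁).commutes x).symm
  have : Module.Flat A₁ C₁ := inferInstance
  have : IsNoetherianRing C₁ := Algebra.FiniteType.isNoetherianRing A₁ C₁
  -- `C` as a `C₁`-algebra
  let : Algebra A₁ C := ((algebraMap A C).comp (algebraMap A₁ A)).toAlgebra
  have : IsScalarTower A₁ A C := .of_algebraMap_eq fun x => rfl
  let m : C₁ →ₐ[A₁] C :=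
    ((e.symm : A ⊗[A₀] B₀ →ₐ[A] C).restrictScalars A₁).comp
      (Algebra.TensorProduct.map (Algebra.ofId A₁ A) (AlgHom.id A₀ B₀))
  let : Algebra C₁ C := m.toRingHom.toAlgebra
  have : IsScalarTower A₁ C₁ C := .of_algebraMap_eq fun x => (m.commutes x).symm
  have hcl : ∀ i, m (cl i) = c i := by
    intro i
    have : e (c i) = ∑ x : S i, x.1.1 ⊗ₜ[A₀] x.1.2 := by
      rw [hS i, ← Finset.sum_coe_sort]
    rw [← e.symm_apply_apply (c i), this]
    simp only [m, cl, map_sum, AlgHom.comp_apply, AlgHom.restrictScalars_apply]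
    refine Finset.sum_congr rfl fun x _ => ?_
    rw [Algebra.TensorProduct.map_tmul]
    exact congrArg e.symm (congrArg (· ⊗ₜ[A₀] x.1.2) (MvPolynomial.aeval_X _ _))
  let : Algebra P₁ C := ((algebraMap (MvPolynomial σ A) C).comp (algebraMap P₁ (MvPolynomial σ A))).toAlgebra
  have : IsScalarTower P₁ (MvPolynomial σ A) C := .of_algebraMap_eq fun x => rfl
  have : IsScalarTower P₁ C₁ C := .of_algebraMap_eq' (by
    refine MvPolynomial.ringHom_ext (fun a => ?_) fun i => ?_
    · change (algebraMap (MvPolynomial σ A) C) (algebraMap P₁ (MvPolynomial σ A) (MvPolynomial.C a)) =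
        m ((MvPolynomial.aeval cl : P₁ →ₐ[A₁] C₁) (MvPolynomial.C a))
      rw [MvPolynomial.aeval_C, m.commutes, MvPolynomial.algebraMap_def, MvPolynomial.map_C]
      exact (MvPolynomial.aeval_C c _).trans rfl
    · change (algebraMap (MvPolynomial σ A) C) (algebraMap P₁ (MvPolynomial σ A) (MvPolynomial.X i)) =
        m ((MvPolynomial.aeval cl : P₁ →ₐ[A₁] C₁) (MvPolynomial.X i))
      rw [MvPolynomial.aeval_X, hcl, MvPolynomial.algebraMap_def, MvPolynomial.map_X]
      exact MvPolynomial.aeval_X c i)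
  have : Algebra.IsPushout A₁ A C₁ C := by
    let e' : A ⊗[A₁] C₁ ≃ₐ[A] C := (Algebra.TensorProduct.cancelBaseChange A₀ A₁ A A B₀).trans e.symm
    refine Algebra.IsPushout.of_equiv (S' := A ⊗[A₁] C₁) e' (RingHom.ext fun x => ?_)
    change e' ((1 : A) ⊗ₜ x) = m x
    induction x using TensorProduct.induction_on with
    | zero => simp
    | tmul a b =>
      simp only [e', m, AlgEquiv.trans_apply, AlgHom.comp_apply, AlgHom.restrictScalars_apply]
      rw [Algebra.TensorProduct.map_tmul]
      refine congrArg e.symm ?_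
      exact (Algebra.TensorProduct.cancelBaseChange_tmul ..).trans (by simp [Algebra.smul_def, Algebra.ofId_apply])
    | add x y hx hy => simp only [tmul_add, map_add, hx, hy]
  have : IsScalarTower A₁ (MvPolynomial σ A) C := .of_algebraMap_eq fun x => by
    rw [IsScalarTower.algebraMap_apply A₁ A (MvPolynomial σ A), ← IsScalarTower.algebraMap_apply A (MvPolynomial σ A) C]
    rfl
  have : Algebra.IsPushout P₁ (MvPolynomial σ A) C₁ C :=
    ((Algebra.IsPushout.comp_iff A₁ P₁ A (MvPolynomial σ A) (T := C₁) (T' := C)).1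
      (Algebra.IsPushout.symm ‹Algebra.IsPushout A₁ A C₁ C›)).symm
  refine flat_of_model (A := A) (A₁ := A₁) (P₁ := P₁) (C₁ := C₁) fun L _ _ _ _ => ?_
  let G := P₁ ⊗[A₁] L
  let F := MvPolynomial σ A ⊗[A] L
  let φ : G →ₐ[P₁] F := Algebra.TensorProduct.lift (Algebra.ofId P₁ F)
    ((Algebra.TensorProduct.includeRight : L →ₐ[A] F).restrictScalars A₁) (fun _ _ => Commute.all _ _)
  let : Algebra G F := φ.toRingHom.toAlgebra
  have : IsScalarTower P₁ G F := .of_algebraMap_eq fun x => (φ.commutes x).symm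
  have hφ : Function.Bijective φ := by
    have : Algebra.IsPushout A₁ (MvPolynomial σ A₁) A (MvPolynomial σ A) := inferInstance
    have e : P₁ ⊗[A₁] L ≃ₐ[P₁] F :=
      (Algebra.IsPushout.cancelBaseChangeAlg A₁ P₁ A (MvPolynomial σ A) L).symm
    have : (φ : G → F) = (Algebra.IsPushout.cancelBaseChangeAlg A₁ P₁ A (MvPolynomial σ A) L).symm := by
      funext x
      induction x using TensorProduct.induction_on with
      | zero => simp
      | tmul a b =>
        refine (Algebra.TensorProduct.lift_tmul ..).trans ?_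
        rw [Algebra.IsPushout.cancelBaseChangeAlg_symm_tmul]
        change algebraMap P₁ F a * ((1 : MvPolynomial σ A) ⊗ₜ[A] b) = _
        rw [IsScalarTower.algebraMap_apply P₁ (MvPolynomial σ A) F]
        exact (Algebra.TensorProduct.tmul_mul_tmul ..).trans (by rw [mul_one, one_mul]; rfl)
      | add x y hx hy => rw [map_add, map_add, hx, hy]
    rw [this]
    exact AlgEquiv.bijective _
  have hF : Module.Flat F (F ⊗[P₁] C₁) :=
    have := hfib L
    Module.Flat.of_linearEquiv
      ((AlgebraTensorModule.congr (LinearEquiv.refl F F)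
          (Algebra.IsPushout.equiv P₁ (MvPolynomial σ A) C₁ C).toLinearEquiv.symm) ≪≫ₗ
        AlgebraTensorModule.cancelBaseChange P₁ (MvPolynomial σ A) F F C₁).symm
  have : Module.Flat F (F ⊗[G] (G ⊗[P₁] C₁)) :=
    Module.Flat.of_linearEquiv (AlgebraTensorModule.cancelBaseChange P₁ G F F C₁)
  have : Module.FaithfullyFlat G F := Module.FaithfullyFlat.of_linearEquiv G G
    (LinearEquiv.ofBijective (Algebra.linearMap G F) hφ).symm
  exact Module.Flat.of_flat_tensorProduct _ _ F

end Groth.Agent.FibFlat
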