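import Groth.Agent.LocalCrit.Fibre
import Mathlib.RingTheory.Flat.Localization
import Mathlib.RingTheory.LocalRing.ResidueField.Ideal
import Mathlib.RingTheory.Localization.BaseChange
import Mathlib.RingTheory.Localization.Submodule

/-!
# Fibrewise criterion of flatness over noetherian rings
-/

universe u

open TensorProduct

namespace Groth.Agent.FibFlat

/-- **Fibrewise criterion of flatness**, noetherian local form. -/
theorem flat_of_fibre_local {R S T : Type u} [CommRing R] [CommRing S] [CommRing T]
    [IsLocalRing R] [IsLocalRing S] [IsLocalRing T] [IsNoetherianRing S] [IsNoetherianRing T]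
    [Algebra R S] [Algebra S T] [Algebra R T] [IsScalarTower R S T]
    [IsLocalHom (algebraMap R S)] [IsLocalHom (algebraMap S T)] [Module.Flat R T]
    (h : Module.Flat (S ⧸ (IsLocalRing.maximalIdeal R).map (algebraMap R S))
      ((S ⧸ (IsLocalRing.maximalIdeal R).map (algebraMap R S)) ⊗[S] T)) : Module.Flat S T :=
  LocalCrit.flat_of_quotient_flat T _
    (fun e => (IsLocalRing.maximalIdeal.isMaximal S).ne_top
      (top_le_iff.1 (e ▸ LocalCrit.map_maximalIdeal_le)))
    (LocalCrit.mulMap_map_injective (LocalCrit.mulMap_injective _)) h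

attribute [local instance] Algebra.TensorProduct.rightAlgebra in
theorem flat_tensor_of_flat (P Q C T : Type u) [CommRing P] [CommRing Q] [CommRing C] [CommRing T]
    [Algebra P Q] [Algebra P C] [Algebra C T] [Algebra P T] [IsScalarTower P C T]
    [Module.Flat Q (Q ⊗[P] C)] [Module.Flat C T] : Module.Flat Q (Q ⊗[P] T) := by
  have : Module.Flat Q ((Q ⊗[P] C) ⊗[C] T) := Module.Flat.trans Q (Q ⊗[P] C) _
  exact Module.Flat.of_linearEquiv (Algebra.IsPushout.cancelBaseChange P Q C (Q ⊗[P] C) T).symm

/-- **Fibrewise criterion of flatness** at a prime, noetherian form. -/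
theorem flat_localization_of_fibre {A P C : Type u} [CommRing A] [CommRing P] [CommRing C]
    [Algebra A P] [Algebra P C] [Algebra A C] [IsScalarTower A P C]
    [IsNoetherianRing P] [IsNoetherianRing C] [Module.Flat A C] (q : Ideal C) [q.IsPrime]
    (p : Ideal A) [p.IsPrime] [q.LiesOver p]
    (h : Module.Flat (P ⊗[A] p.ResidueField) ((P ⊗[A] p.ResidueField) ⊗[P] C)) :
    Module.Flat P (Localization.AtPrime q) := by
  let r : Ideal P := q.under P
  have : q.LiesOver r := ⟨rfl⟩
  have : r.LiesOver p := ⟨by rw [q.over_def p]; exact (Ideal.under_under q).symm⟩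
  let R := Localization.AtPrime p
  let S := Localization.AtPrime r
  let T := Localization.AtPrime q
  let : Algebra R S := Localization.AtPrime.algebraOfLiesOver p r
  let : Algebra S T := Localization.AtPrime.algebraOfLiesOver r q
  let : Algebra R T := Localization.AtPrime.algebraOfLiesOver p q
  have : IsScalarTower R S T := .of_algebraMap_eq' (by
    apply IsLocalization.ringHom_ext p.primeCompl
    ext a
    simp only [RingHom.comp_apply, ← IsScalarTower.algebraMap_apply A R,
      ← IsScalarTower.algebraMap_apply A S, ← IsScalarTower.algebraMap_apply A T])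
  have : IsLocalHom (algebraMap R S) := Localization.isLocalHom_localRingHom _ _ _ (r.over_def p)
  have : IsLocalHom (algebraMap S T) := Localization.isLocalHom_localRingHom _ _ _ (q.over_def r)
  have : IsNoetherianRing S := IsLocalization.isNoetherianRing r.primeCompl S inferInstance
  have : IsNoetherianRing T := IsLocalization.isNoetherianRing q.primeCompl T inferInstance
  have : Module.Flat A T := Module.Flat.trans A C T
  have : Module.Flat R T := (Module.flat_iff_of_isLocalization R p.primeCompl _).2 this
  suffices Module.Flat S T from (Module.flat_iff_of_isLocalization S r.primeCompl _).1 this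
  apply flat_of_fibre_local (R := R)
  let J : Ideal S := (IsLocalRing.maximalIdeal R).map (algebraMap R S)
  let Q := S ⧸ J
  let f : A →ₐ[A] Q := Algebra.ofId A Q
  have hf1 : p ≤ RingHom.ker f := fun a ha => by
    have : algebraMap A R a ∈ IsLocalRing.maximalIdeal R :=
      (IsLocalization.AtPrime.to_map_mem_maximal_iff R p a).2 ha
    rw [RingHom.mem_ker]
    change algebraMap A Q a = 0
    rw [IsScalarTower.algebraMap_apply A S Q, Ideal.Quotient.algebraMap_eq, Ideal.Quotient.eq_zero_iff_mem,
      IsScalarTower.algebraMap_apply A R S]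
    exact Ideal.mem_map_of_mem _ this
  have hf2 : p.primeCompl ≤ (IsUnit.submonoid Q).comap f := fun a ha => by
    change IsUnit (algebraMap A Q a)
    rw [IsScalarTower.algebraMap_apply A S Q, IsScalarTower.algebraMap_apply A R S]
    exact ((IsLocalization.map_units R (⟨a, ha⟩ : p.primeCompl)).map (algebraMap R S)).map _
  let g : P ⊗[A] p.ResidueField →ₐ[A] Q := Algebra.TensorProduct.lift
    (IsScalarTower.toAlgHom A P Q) (Ideal.ResidueField.liftₐ p f hf1 hf2) (fun _ _ => Commute.all _ _)
  let : Algebra (P ⊗[A] p.ResidueField) Q := g.toRingHom.toAlgebra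
  have hPg : ∀ b : P, g (b ⊗ₜ (1 : p.ResidueField)) = algebraMap P Q b := fun b => by simp [g]
  have : IsScalarTower P (P ⊗[A] p.ResidueField) Q := .of_algebraMap_eq fun b => (hPg b).symm
  have h1 : Module.Flat Q (Q ⊗[P] C) :=
    Module.Flat.of_linearEquiv
      (AlgebraTensorModule.cancelBaseChange P (P ⊗[A] p.ResidueField) Q Q C).symm
  have h2 : Module.Flat Q (Q ⊗[P] T) :=
    have : Module.Flat C T := IsLocalization.flat T q.primeCompl
    @flat_tensor_of_flat P Q C T _ _ _ _ _ _ _ _ _ h1 this
  exact Module.Flat.of_linearEquiv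
    (TensorProduct.equivOfCompatibleSMul S P Q Q T).symm

end Groth.Agent.FibFlat
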